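import Cfsg.Agent.H858.L5.SlA
import Cfsg.Agent.ClassicalGeometry.AutPSL.Main
import Cfsg.Agent.S0242
import Cfsg.Agent.S0249

/-!
# S5923 / S5924, section S (second part): order, simplicity and automorphisms of `SL₃(5)` (S1, S6)
-/

set_option autoImplicit false
set_option linter.unusedSectionVars false

namespace Cfsg.Agent.H858.L5

open Subgroup Cfsg.Agent.H865.L5
open Cfsg.Agent.ClassicalGeometry.AutPSL.Root Cfsg.Agent.ClassicalGeometry.AutPSL.Auto
  Cfsg.Agent.ClassicalGeometry.AutPSL.Main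

/-- the diagonal elements -/
def dg (a b : (ZMod 5)ˣ) : SL35 := ⟨Matrix.diagonal ![(a : ZMod 5), (b : ZMod 5), ((a * b)⁻¹ : (ZMod 5)ˣ)], by
  rw [Matrix.det_diagonal, Fin.prod_univ_three]
  show (a : ZMod 5) * (b : ZMod 5) * (((a * b)⁻¹ : (ZMod 5)ˣ) : ZMod 5) = 1
  rw [← Units.val_mul, ← Units.val_mul, mul_inv_cancel, Units.val_one]⟩

/-- S1 -/
theorem card_SL : Nat.card SL35 = 372000 := by
  have h1 := Cfsg.Agent.S0242.result (F := ZMod 5) (ZMod.card 5) 3 (by norm_num)
  rw [Fin.prod_univ_three] at h1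
  change 4 * Nat.card SL35 = 124 * 120 * 100 at h1
  omega

theorem cube_one' : ∀ x : ZMod 5, x ^ 3 = 1 → x = 1 := by decide

theorem center_SL : Subgroup.center SL35 = ⊥ := by
  rw [eq_bot_iff]
  intro A hA
  rw [Matrix.SpecialLinearGroup.mem_center_iff] at hA
  obtain ⟨r, hr, hA⟩ := hA
  rw [Fintype.card_fin] at hr
  have h1 := cube_one' r hr
  rw [Subgroup.mem_bot]
  apply Subtype.ext
  rw [← hA, h1, map_one]
  rfl

theorem pr_injective : Function.Injective (pr : SL35 →* Matrix.ProjectiveSpecialLinearGroup (Fin 3) (ZMod 5)) := by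
  rw [injective_iff_map_eq_one]
  intro x hx
  have h1 := (pr_eq_one_iff x).1 hx
  rw [center_SL, Subgroup.mem_bot] at h1
  exact h1

/-- `SL₃(5) = PSL₃(5)` -/
noncomputable def slPsl : SL35 ≃* Matrix.ProjectiveSpecialLinearGroup (Fin 3) (ZMod 5) :=
  MulEquiv.ofBijective pr ⟨pr_injective, pr_surjective⟩

theorem simple_SL : IsSimpleGroup SL35 := by
  have := Cfsg.Agent.S0249.result (F := ZMod 5) 3 le_rfl
  exact slPsl.isSimpleGroup

theorem psl_equiv {F : Type*} [Field F] [Fintype F] (hF : Fintype.card F = 5) :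
    Nonempty (SL35 ≃* Matrix.ProjectiveSpecialLinearGroup (Fin 3) F) := by
  classical
  have e : ZMod 5 ≃+* F := ZMod.ringEquivOfPrime F (by norm_num) hF
  let m : SL35 →* Matrix.SpecialLinearGroup (Fin 3) F := Matrix.SpecialLinearGroup.map (e : ZMod 5 →+* F)
  let m' : Matrix.SpecialLinearGroup (Fin 3) F →* SL35 := Matrix.SpecialLinearGroup.map (e.symm : F →+* ZMod 5)
  have h1 : ∀ x, m' (m x) = x := fun x => by
    apply Subtype.ext
    ext i j
    change e.symm (e (x.1 i j)) = x.1 i j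
    exact e.symm_apply_apply _
  have h2 : ∀ x, m (m' x) = x := fun x => by
    apply Subtype.ext
    ext i j
    change e (e.symm (x.1 i j)) = x.1 i j
    exact e.apply_symm_apply _
  let E : SL35 ≃* Matrix.SpecialLinearGroup (Fin 3) F :=
    { toFun := m, invFun := m', left_inv := h1, right_inv := h2, map_mul' := map_mul m }
  have hc : Function.Injective (pr : Matrix.SpecialLinearGroup (Fin 3) F →* _) := by
    rw [injective_iff_map_eq_one]
    intro x hx
    have h3 := (pr_eq_one_iff x).1 hx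
    have h4 : E.symm x ∈ Subgroup.center SL35 := by
      rw [Subgroup.mem_center_iff] at h3 ⊢
      intro g
      have h5 := h3 (E g)
      apply E.injective
      rw [map_mul, map_mul, E.apply_symm_apply]
      exact h5
    rw [center_SL, Subgroup.mem_bot] at h4
    rw [← E.apply_symm_apply x, h4, map_one]
  exact ⟨E.trans (MulEquiv.ofBijective pr ⟨hc, pr_surjective⟩)⟩

/-! ### S6 -/

theorem fld_eq (σ : ZMod 5 ≃+* ZMod 5) (g : SL35) : fld σ g = g := by
  apply Subtype.ext
  ext i j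
  rw [coe_fld_apply]
  have h1 : σ = RingEquiv.refl _ := Subsingleton.elim _ _
  rw [h1]
  rfl

theorem scale : ∀ x : ZMod 5, x ≠ 0 → x ^ 3 * x = 1 := by decide

/-- conjugation by an element of `GL₃(5)` is inner -/
theorem cj_inner (A : GL (Fin 3) (ZMod 5)) : ∃ x : SL35, ∀ g, cj A g = x * g * x⁻¹ := by
  have hd : (A : Matrix (Fin 3) (Fin 3) (ZMod 5)).det ≠ 0 := by
    have := (Matrix.isUnit_iff_isUnit_det _).1 A.isUnit
    exact this.ne_zero
  set d := (A : Matrix (Fin 3) (Fin 3) (ZMod 5)).det with hdd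
  let x : SL35 := ⟨d • (A : Matrix (Fin 3) (Fin 3) (ZMod 5)), by
    rw [Matrix.det_smul, Fintype.card_fin, ← hdd]
    exact scale d hd⟩
  refine ⟨x, fun g => ?_⟩
  rw [eq_mul_inv_iff_mul_eq]
  apply Subtype.ext
  change (cj A g).1 * (d • (A : Matrix (Fin 3) (Fin 3) (ZMod 5))) = (d • (A : Matrix (Fin 3) (Fin 3) (ZMod 5))) * g.1
  rw [coe_cj, Matrix.mul_smul, Matrix.smul_mul, mul_assoc, ← Units.val_mul, inv_mul_cancel, Units.val_one, mul_one]

theorem aut_SL (α : SL35 ≃* SL35) : (∃ x, ∀ g, α g = x * g * x⁻¹) ∨ ∃ x, ∀ g, α g = x * io g * x⁻¹ := by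
  rcases surj_three 5 le_rfl (lift α) with ⟨A, σ, h⟩ | ⟨A, σ, h⟩
  · left
    obtain ⟨x, hx⟩ := cj_inner A
    refine ⟨x, fun g => ?_⟩
    have h1 : lift α (pr g) = lift (cj A * fld σ) (pr g) := by rw [h]
    rw [lift_pr, lift_pr] at h1
    have h2 := pr_injective h1
    rw [h2, MulAut.mul_apply, fld_eq, hx]
  · right
    obtain ⟨x, hx⟩ := cj_inner A
    refine ⟨x, fun g => ?_⟩
    have h1 : lift α (pr g) = lift (cj A * fld σ * itr) (pr g) := by rw [h]
    rw [lift_pr, lift_pr] at h1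
    have h2 := pr_injective h1
    rw [h2, MulAut.mul_apply, MulAut.mul_apply, fld_eq, hx]
    rfl

theorem trace_conj (x g : SL35) : Matrix.trace (x * g * x⁻¹).1 = Matrix.trace g.1 := by
  change Matrix.trace (x.1 * g.1 * (x⁻¹).1) = _
  rw [Matrix.trace_mul_comm, ← mul_assoc]
  change Matrix.trace ((x⁻¹ * x).1 * g.1) = _
  rw [inv_mul_cancel]
  change Matrix.trace (1 * g.1) = _
  rw [one_mul]

theorem io_not_inner : ¬ ∃ x : SL35, ∀ g, io g = x * g * x⁻¹ := by
  rintro ⟨x, hx⟩
  have h1 := trace_conj x z0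
  rw [← hx z0] at h1
  have h2 : Matrix.trace (io z0).1 = 0 := by
    rw [io_apply]
    decide +kernel
  have h3 : Matrix.trace z0.1 = 3 := by decide +kernel
  rw [h2, h3] at h1
  exact absurd h1 (by decide)

end Cfsg.Agent.H858.L5
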